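import Groth.Agent.PinchMod.Basic

/-!
# Finiteness and projectivity of modules over a fibre product of rings (Milnor patching)
-/

set_option autoImplicit false
set_option linter.style.haveILetI false

universe u

open TensorProduct

namespace Groth.Agent.PinchMod

variable {A B C M : Type u} [CommRing A] [CommRing B] [CommRing C] [Algebra A B] [Algebra A C]
  [AddCommGroup M] [Module A M]

theorem exists_fg_surjective (S : Type u) [CommRing S] [Algebra A S] (M : Type u) [AddCommGroup M] [Module A M]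
    [Module.Finite S (S ⊗[A] M)] :
    ∃ N : Submodule A M, N.FG ∧ ∀ N' : Submodule A M, N ≤ N' → Function.Surjective (N'.subtype.baseChange S) := by
  classical
  obtain ⟨s, hs⟩ := (Module.Finite.fg_top : (⊤ : Submodule S (S ⊗[A] M)).FG)
  choose T hT using fun x : S ⊗[A] M => TensorProduct.exists_finset x
  refine ⟨Submodule.span A ((s.biUnion fun x => (T x).image Prod.snd : Finset M) : Set M), ⟨_, rfl⟩, fun N' hN' => ?_⟩
  rw [← LinearMap.range_eq_top, eq_top_iff, ← hs, Submodule.span_le]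
  intro x hx
  rw [hT x]
  refine sum_mem fun z hz => ⟨z.1 ⊗ₜ ⟨z.2, hN' (Submodule.subset_span (Finset.mem_biUnion.2
    ⟨x, hx, Finset.mem_image_of_mem _ hz⟩))⟩, ?_⟩
  simp

theorem subsingleton_quotient_tensor (S : Type u) [CommRing S] [Algebra A S] (N : Submodule A M)
    (h : Function.Surjective (N.subtype.baseChange S)) : Subsingleton (S ⊗[A] (M ⧸ N)) := by
  refine subsingleton_of_forall_eq 0 fun x => ?_
  obtain ⟨y, rfl⟩ := LinearMap.lTensor_surjective S N.mkQ_surjective x
  obtain ⟨z, rfl⟩ := h y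
  rw [LinearMap.baseChange_eq_ltensor, ← LinearMap.comp_apply, ← LinearMap.lTensor_comp,
    show N.mkQ ∘ₗ N.subtype = 0 from LinearMap.ext fun v => (Submodule.Quotient.mk_eq_zero N).2 v.2,
    LinearMap.lTensor_zero, LinearMap.zero_apply]

variable (A B C) in
/-- A pinching datum: `A` is the fibre product of `B` and `C` over the quotient of `B`. -/
structure IsPinch : Prop where
  surj : Function.Surjective (algebraMap A C)
  inj : RingHom.ker (algebraMap A B) ⊓ RingHom.ker (algebraMap A C) = ⊥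
  mem : ∀ a ∈ (RingHom.ker (algebraMap A C)).map (algebraMap A B),
    ∃ i ∈ RingHom.ker (algebraMap A C), algebraMap A B i = a

variable (h : IsPinch A B C)
include h

theorem finite_of_pinch [Module.Finite B (B ⊗[A] M)] [Module.Finite C (C ⊗[A] M)] : Module.Finite A M := by
  obtain ⟨N₁, hN₁, h₁⟩ := exists_fg_surjective (A := A) B M
  obtain ⟨N₂, hN₂, h₂⟩ := exists_fg_surjective (A := A) C M
  have hB := subsingleton_quotient_tensor B (N₁ ⊔ N₂) (h₁ _ le_sup_left)
  have hC := subsingleton_quotient_tensor C (N₁ ⊔ N₂) (h₂ _ le_sup_right)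
  have e₁ : ∀ (D : Type u) [CommRing D] [Algebra A D], (algebraMap A D).toAlgebra = (inferInstance : Algebra A D) :=
    fun D _ _ => Algebra.algebra_ext _ _ fun _ => rfl
  have hI := smul_top_eq_top (M := M ⧸ (N₁ ⊔ N₂)) (algebraMap A C) h.surj (by rw [e₁ C]; exact hC)
  have hsub := subsingleton_of_pinch (M := M ⧸ (N₁ ⊔ N₂)) (algebraMap A B) _ h.inj h.mem (by rw [e₁ B]; exact hB) hI
  exact ⟨(Submodule.Quotient.subsingleton_iff.1 hsub) ▸ hN₁.sup hN₂⟩

/-- The preimage in the common ideal. -/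
theorem exists_section : ∃ ρ : ↥((RingHom.ker (algebraMap A C)).map (algebraMap A B)) →ₗ[A] A,
    ∀ j, ρ j ∈ RingHom.ker (algebraMap A C) ∧ algebraMap A B (ρ j) = (j : B) := by
  choose ρ hρI hρ using fun j : ↥((RingHom.ker (algebraMap A C)).map (algebraMap A B)) => h.mem j.1 j.2
  have huniq : ∀ {i j : A}, i ∈ RingHom.ker (algebraMap A C) → j ∈ RingHom.ker (algebraMap A C) →
      algebraMap A B i = algebraMap A B j → i = j := fun {i j} hi hj he => by
    rw [← sub_eq_zero, ← Submodule.mem_bot A, ← h.inj]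
    exact ⟨RingHom.mem_ker.2 (by rw [map_sub, he, sub_self]), sub_mem hi hj⟩
  refine ⟨{ toFun := ρ
            map_add' := fun x y => huniq (hρI _) (add_mem (hρI x) (hρI y)) (by rw [map_add, hρ, hρ, hρ]; rfl)
            map_smul' := fun a x => huniq (hρI _) (Ideal.mul_mem_left _ a (hρI x)) (by
              rw [RingHom.id_apply, smul_eq_mul, map_mul, hρ, hρ, Submodule.coe_smul_of_tower, Algebra.smul_def]) },
    fun j => ⟨hρI j, hρ j⟩⟩

theorem one_tmul_eq_zero_iff (x : M) :
    (1 : C) ⊗ₜ[A] x = 0 ↔ x ∈ RingHom.ker (algebraMap A C) • (⊤ : Submodule A M) := by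
  let e : (A ⧸ RingHom.ker (algebraMap A C)) ≃ₐ[A] C :=
    Ideal.quotientKerAlgEquivOfSurjective (f := Algebra.ofId A C) h.surj
  let E := (TensorProduct.quotTensorEquivQuotSMul M (RingHom.ker (algebraMap A C))).symm.trans
    (TensorProduct.congr e.toLinearEquiv (LinearEquiv.refl A M))
  have he : E (Submodule.Quotient.mk x) = (1 : C) ⊗ₜ[A] x := by
    simp [E, TensorProduct.quotTensorEquivQuotSMul_symm_mk]
  rw [← he, map_eq_zero_iff E E.injective, Submodule.Quotient.mk_eq_zero]

theorem exists_one_tmul (y : C ⊗[A] M) : ∃ x : M, (1 : C) ⊗ₜ[A] x = y := by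
  induction y using TensorProduct.induction_on with
  | zero => exact ⟨0, tmul_zero _ _⟩
  | tmul c x =>
    obtain ⟨a, rfl⟩ := h.surj c
    exact ⟨a • x, by rw [tmul_smul, TensorProduct.smul_tmul', Algebra.smul_def, mul_one]⟩
  | add a b ha hb =>
    obtain ⟨x, rfl⟩ := ha; obtain ⟨y, rfl⟩ := hb
    exact ⟨x + y, tmul_add _ _ _⟩

omit h in
theorem one_tmul_mem {x : M} (hx : x ∈ RingHom.ker (algebraMap A C) • (⊤ : Submodule A M)) :
    (1 : B) ⊗ₜ[A] x ∈ (RingHom.ker (algebraMap A C)).map (algebraMap A B) • (⊤ : Submodule B (B ⊗[A] M)) := by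
  refine Submodule.smul_induction_on hx (fun i hi m _ => ?_) (fun a b ha hb => by rw [tmul_add]; exact add_mem ha hb)
  rw [tmul_smul, ← algebraMap_smul B i]
  exact Submodule.smul_mem_smul (Ideal.mem_map_of_mem _ hi) Submodule.mem_top

theorem exists_of_mem_smul {z : B ⊗[A] M}
    (hz : z ∈ (RingHom.ker (algebraMap A C)).map (algebraMap A B) • (⊤ : Submodule B (B ⊗[A] M))) :
    ∃ x ∈ RingHom.ker (algebraMap A C) • (⊤ : Submodule A M), (1 : B) ⊗ₜ[A] x = z := by
  refine Submodule.smul_induction_on hz (fun j hj y hy => ?_) ?_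
  · clear hy
    induction y using TensorProduct.induction_on with
    | zero => exact ⟨0, zero_mem _, by rw [tmul_zero, smul_zero]⟩
    | tmul b x =>
      obtain ⟨i, hi, hij⟩ := h.mem (j * b) (Ideal.mul_mem_right b _ hj)
      refine ⟨i • x, Submodule.smul_mem_smul hi Submodule.mem_top, ?_⟩
      rw [tmul_smul, TensorProduct.smul_tmul', TensorProduct.smul_tmul', Algebra.smul_def, mul_one, hij, smul_eq_mul]
    | add a b ha hb =>
      obtain ⟨x, hx, hx'⟩ := ha; obtain ⟨y, hy, hy'⟩ := hb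
      exact ⟨x + y, add_mem hx hy, by rw [tmul_add, hx', hy', smul_add]⟩
  · rintro a b ⟨x, hx, rfl⟩ ⟨y, hy, rfl⟩
    exact ⟨x + y, add_mem hx hy, tmul_add _ _ _⟩

theorem eq_zero_of_one_tmul [Module.Flat B (B ⊗[A] M)] {x : M}
    (hx : x ∈ RingHom.ker (algebraMap A C) • (⊤ : Submodule A M)) (hx0 : (1 : B) ⊗ₜ[A] x = 0) : x = 0 := by
  obtain ⟨ρ, hρ⟩ := exists_section h
  let J := (RingHom.ker (algebraMap A C)).map (algebraMap A B)
  let η : (↥J) ⊗[A] M →ₗ[A] M := TensorProduct.lift ((LinearMap.lsmul A M).comp ρ)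
  let μ : (↥J) ⊗[A] M →ₗ[A] B ⊗[A] M := (J.subtype.restrictScalars A).rTensor M
  have hμη : ∀ z, μ z = (1 : B) ⊗ₜ[A] η z := fun z => by
    induction z using TensorProduct.induction_on with
    | zero => simp
    | tmul j m =>
      show (j : B) ⊗ₜ[A] m = (1 : B) ⊗ₜ[A] (ρ j • m)
      rw [← (hρ j).2, tmul_smul, TensorProduct.smul_tmul', Algebra.smul_def, mul_one]
    | add a b ha hb => rw [map_add, map_add, ha, hb, tmul_add]
  have hinj : Function.Injective μ := by
    let c := AlgebraTensorModule.cancelBaseChange A B B (↥J) M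
    let l : B ⊗[B] (B ⊗[A] M) ≃ₗ[B] B ⊗[A] M := TensorProduct.lid B _
    have hfl := Module.Flat.rTensor_preserves_injective_linearMap (M := B ⊗[A] M) J.subtype J.injective_subtype
    have he : ∀ z, μ (c z) = l (J.subtype.rTensor (B ⊗[A] M) z) := fun z => by
      induction z using TensorProduct.induction_on with
      | zero => simp
      | tmul j y =>
        induction y using TensorProduct.induction_on with
        | zero => simp
        | tmul b m => simp [μ, c, l, TensorProduct.smul_tmul', mul_comm]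
        | add a b ha hb => simp only [tmul_add, map_add, ha, hb]
      | add a b ha hb => simp only [map_add, ha, hb]
    intro z w hzw
    obtain ⟨z, rfl⟩ := c.surjective z
    obtain ⟨w, rfl⟩ := c.surjective w
    rw [he, he] at hzw
    exact congrArg c (hfl (l.injective hzw))
  obtain ⟨z, rfl⟩ : ∃ z, η z = x := by
    refine Submodule.smul_induction_on hx (fun i hi m _ => ?_) ?_
    · refine ⟨⟨algebraMap A B i, Ideal.mem_map_of_mem _ hi⟩ ⊗ₜ m, ?_⟩
      show ρ _ • m = i • m
      congr 1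
      rw [← sub_eq_zero, ← Submodule.mem_bot A, ← h.inj]
      exact ⟨RingHom.mem_ker.2 (by rw [map_sub, (hρ _).2, sub_self]), sub_mem (hρ _).1 hi⟩
    · rintro a b ⟨z, rfl⟩ ⟨w, rfl⟩
      exact ⟨z + w, map_add _ _ _⟩
  rw [hinj (a₁ := z) (a₂ := 0) (by rw [hμη, hx0, map_zero]), map_zero]

theorem projective_of_pinch [Module.Finite A M] [Module.Projective B (B ⊗[A] M)]
    [Module.Projective C (C ⊗[A] M)] : Module.Projective A M := by
  classical
  obtain ⟨n, p, hp⟩ := Module.Finite.exists_fin' A M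
  let P := Fin n → A
  let pB := p.baseChange B
  let pC := p.baseChange C
  obtain ⟨sC, hsC⟩ := Module.projective_lifting_property pC LinearMap.id (LinearMap.lTensor_surjective C hp)
  obtain ⟨t₀, ht₀⟩ := Module.projective_lifting_property pB LinearMap.id (LinearMap.lTensor_surjective B hp)
  let JP := (RingHom.ker (algebraMap A C)).map (algebraMap A B) • (⊤ : Submodule B (B ⊗[A] P))
  choose x₀ hx₀ using fun m : M => exists_one_tmul h (sC ((1 : C) ⊗ₜ[A] m))
  have hcong : ∀ {u v : P}, (1 : C) ⊗ₜ[A] u = (1 : C) ⊗ₜ[A] v → (1 : B) ⊗ₜ[A] u - (1 : B) ⊗ₜ[A] v ∈ JP :=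
    fun {u v} huv => by
      rw [← tmul_sub]
      exact one_tmul_mem ((one_tmul_eq_zero_iff h _).1 (by rw [tmul_sub, huv, sub_self]))
  let d₀ : M →ₗ[A] (B ⊗[A] P) ⧸ JP :=
    { toFun := fun m => Submodule.Quotient.mk ((1 : B) ⊗ₜ[A] x₀ m - t₀ ((1 : B) ⊗ₜ[A] m))
      map_add' := fun a b => by
        rw [← Submodule.Quotient.mk_add, Submodule.Quotient.eq, tmul_add 1 a b, map_add]
        have h' := hcong (u := x₀ (a + b)) (v := x₀ a + x₀ b) (by rw [hx₀, tmul_add, map_add, tmul_add, hx₀, hx₀])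
        rw [tmul_add] at h'
        convert h' using 1
        abel
      map_smul' := fun r a => by
        rw [RingHom.id_apply, ← Submodule.Quotient.mk_smul, Submodule.Quotient.eq, tmul_smul r 1 a,
          LinearMap.map_smul_of_tower, smul_sub, ← tmul_smul, sub_sub_sub_cancel_right]
        exact hcong (by rw [hx₀, tmul_smul, LinearMap.map_smul_of_tower, tmul_smul, hx₀]) }
  obtain ⟨dl, hdl⟩ := Module.projective_lifting_property JP.mkQ (d₀.liftBaseChange B) JP.mkQ_surjective
  let t : B ⊗[A] M →ₗ[B] B ⊗[A] P := t₀ + (LinearMap.id - t₀.comp pB).comp dl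
  have ht₀' : ∀ y, pB (t₀ y) = y := fun y => LinearMap.congr_fun ht₀ y
  have hsC' : ∀ y, pC (sC y) = y := fun y => LinearMap.congr_fun hsC y
  have hpt : ∀ y, pB (t y) = y := fun y => by
    simp [t, ht₀']
  have hmod : ∀ m, t ((1 : B) ⊗ₜ[A] m) - (1 : B) ⊗ₜ[A] x₀ m ∈ JP := fun m => by
    have h1 : dl ((1 : B) ⊗ₜ[A] m) - ((1 : B) ⊗ₜ[A] x₀ m - t₀ ((1 : B) ⊗ₜ[A] m)) ∈ JP := by
      rw [← Submodule.Quotient.eq]
      refine (LinearMap.congr_fun hdl _).trans ?_
      rw [LinearMap.liftBaseChange_tmul, one_smul]; rfl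
    have h3 : ∀ w ∈ JP, w - t₀ (pB w) ∈ JP := fun w hw => sub_mem hw (by
      refine Submodule.smul_induction_on hw (fun j hj y _ => ?_) (fun a b ha hb => by rw [map_add, map_add]; exact add_mem ha hb)
      rw [map_smul, map_smul]
      exact Submodule.smul_mem_smul hj Submodule.mem_top)
    have h2 : pB ((1 : B) ⊗ₜ[A] x₀ m) - (1 : B) ⊗ₜ[A] m ∈
        (RingHom.ker (algebraMap A C)).map (algebraMap A B) • (⊤ : Submodule B (B ⊗[A] M)) := by
      rw [LinearMap.baseChange_tmul, ← tmul_sub]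
      refine one_tmul_mem ((one_tmul_eq_zero_iff h _).1 ?_)
      rw [tmul_sub, ← LinearMap.baseChange_tmul, hx₀, hsC', sub_self]
    have h4 : t₀ (pB ((1 : B) ⊗ₜ[A] x₀ m) - (1 : B) ⊗ₜ[A] m) ∈ JP := by
      refine Submodule.smul_induction_on h2 (fun j hj y _ => ?_) (fun a b ha hb => by rw [map_add]; exact add_mem ha hb)
      rw [map_smul]
      exact Submodule.smul_mem_smul hj Submodule.mem_top
    convert sub_mem (h3 _ h1) h4 using 1
    simp only [t, LinearMap.add_apply, LinearMap.comp_apply, LinearMap.sub_apply, LinearMap.id_apply, map_sub, ht₀']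
    abel
  have hex : ∀ m, ∃ x : P, (1 : C) ⊗ₜ[A] x = sC ((1 : C) ⊗ₜ[A] m) ∧ (1 : B) ⊗ₜ[A] x = t ((1 : B) ⊗ₜ[A] m) := by
    intro m
    obtain ⟨w, hw, hw'⟩ := exists_of_mem_smul h (hmod m)
    exact ⟨x₀ m + w, by rw [tmul_add, (one_tmul_eq_zero_iff h w).2 hw, add_zero, hx₀],
      by rw [tmul_add, hw', add_sub_cancel]⟩
  choose σ hσC hσB using hex
  have huniq : ∀ {u v : P}, (1 : C) ⊗ₜ[A] u = (1 : C) ⊗ₜ[A] v → (1 : B) ⊗ₜ[A] u = (1 : B) ⊗ₜ[A] v → u = v :=
    fun {u v} hC hB => sub_eq_zero.1 (eq_zero_of_one_tmul h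
      ((one_tmul_eq_zero_iff h _).1 (by rw [tmul_sub, hC, sub_self])) (by rw [tmul_sub, hB, sub_self]))
  let s : M →ₗ[A] P :=
    { toFun := σ
      map_add' := fun a b => huniq (by simp only [tmul_add, hσC, map_add]) (by simp only [tmul_add, hσB, map_add])
      map_smul' := fun r a => huniq (by simp only [RingHom.id_apply, tmul_smul, hσC, LinearMap.map_smul_of_tower])
        (by simp only [RingHom.id_apply, tmul_smul, hσB, LinearMap.map_smul_of_tower]) }
  refine Module.Projective.of_split s p (LinearMap.ext fun m => sub_eq_zero.1 ?_)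
  refine eq_zero_of_one_tmul h ((one_tmul_eq_zero_iff h _).1 ?_) ?_
  · rw [tmul_sub, LinearMap.comp_apply, ← LinearMap.baseChange_tmul, show s m = σ m from rfl, hσC, hsC',
      LinearMap.id_apply, sub_self]
  · rw [tmul_sub, LinearMap.comp_apply, ← LinearMap.baseChange_tmul, show s m = σ m from rfl, hσB, hpt,
      LinearMap.id_apply, sub_self]

end Groth.Agent.PinchMod
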