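import Groth.Agent.QCoh.Pullback
import Groth.Agent.QCoh.Sections

/-!
# Quasi-coherent modules on a pinching square
-/

set_option autoImplicit false
set_option linter.style.haveILetI false
set_option backward.isDefEq.respectTransparency false
set_option backward.isDefEq.respectTransparency.types false

universe u

open CategoryTheory CategoryTheory.Limits AlgebraicGeometry TopologicalSpace Opposite TensorProduct

namespace Groth.Agent.PinchMod

section Algebra

variable {A B C M : Type u} [CommRing A] [CommRing B] [CommRing C] [AddCommGroup M] [Module A M]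

theorem smul_top_eq_top (ψ : A →+* C) (hψ : Function.Surjective ψ)
    (h : letI := ψ.toAlgebra; Subsingleton (C ⊗[A] M)) : RingHom.ker ψ • (⊤ : Submodule A M) = ⊤ := by
  letI := ψ.toAlgebra
  haveI : Subsingleton (C ⊗[A] M) := h
  let e : (A ⧸ RingHom.ker ψ) ≃ₐ[A] C := Ideal.quotientKerAlgEquivOfSurjective (f := Algebra.ofId A C) hψ
  haveI : Subsingleton (M ⧸ RingHom.ker ψ • (⊤ : Submodule A M)) :=
    ((TensorProduct.quotTensorEquivQuotSMul M (RingHom.ker ψ)).symm.trans
      (TensorProduct.congr e.toLinearEquiv (LinearEquiv.refl A M))).toEquiv.subsingleton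
  exact Submodule.Quotient.subsingleton_iff.1 this

theorem subsingleton_of_pinch (φ : A →+* B) (I : Ideal A) (hinj : RingHom.ker φ ⊓ I = ⊥)
    (hmem : ∀ a ∈ I.map φ, ∃ i ∈ I, φ i = a) (hB : letI := φ.toAlgebra; Subsingleton (B ⊗[A] M))
    (hI : I • (⊤ : Submodule A M) = ⊤) : Subsingleton M := by
  letI := φ.toAlgebra
  haveI : Subsingleton (B ⊗[A] M) := hB
  have huniq : ∀ {i j : A}, i ∈ I → j ∈ I → φ i = φ j → i = j := fun {i j} hi hj h => by
    rw [← sub_eq_zero, ← Submodule.mem_bot A, ← hinj]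
    exact ⟨RingHom.mem_ker.2 (by rw [map_sub, h, sub_self]), sub_mem hi hj⟩
  have h0 : ∀ i ∈ I, ∀ m : M, i • m = 0 := by
    intro i hi m
    choose ρ hρI hρ using fun b : B => hmem (b * φ i) (Ideal.mul_mem_left _ b (Ideal.mem_map_of_mem φ hi))
    let r : B →ₗ[A] A :=
      { toFun := ρ
        map_add' := fun b c => huniq (hρI _) (add_mem (hρI b) (hρI c)) (by rw [map_add, hρ, hρ, hρ, add_mul])
        map_smul' := fun a b => huniq (hρI _) (I.mul_mem_left a (hρI b)) (by
          rw [smul_eq_mul, RingHom.id_apply, map_mul, hρ, hρ, Algebra.smul_def, mul_assoc]; rfl) }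
    have hr : r 1 = i := huniq (hρI 1) hi ((hρ 1).trans (one_mul _))
    let L : B ⊗[A] M →ₗ[A] M := TensorProduct.lift ((LinearMap.lsmul A M).comp r)
    have hL : L (1 ⊗ₜ m) = i • m := by simp [L, hr]
    rw [← hL, Subsingleton.elim ((1 : B) ⊗ₜ[A] m) 0, map_zero]
  refine ⟨fun x y => ?_⟩
  suffices ∀ x : M, x = 0 by rw [this x, this y]
  intro x
  have hx : x ∈ I • (⊤ : Submodule A M) := hI.ge Submodule.mem_top
  exact Submodule.smul_induction_on hx (fun i hi m _ => h0 i hi m) (fun a b ha hb => by rw [ha, hb, add_zero])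

end Algebra

variable {X Y : Scheme.{u}}

theorem subsingleton_sections {M : X.Modules} (h : IsZero M) (U : X.Opens) : Subsingleton Γ(M, U) :=
  ⟨fun s t => by
    have hz : ∀ x : Γ(M, U), x = 0 := fun x =>
      congrArg (fun φ : M ⟶ M => φ.app U x) (h.eq_of_src (𝟙 M) 0)
    rw [hz s, hz t]⟩

/-- A module with vanishing restrictions to the charts of a cover vanishes. -/
theorem isZero_of_restrict {ι : Type*} {Z : ι → Scheme.{u}} (i : ∀ k, Z k ⟶ X) [∀ k, IsOpenImmersion (i k)]
    (hcov : ∀ x : X, ∃ k, x ∈ (i k).opensRange) {M : X.Modules} (h : ∀ k, IsZero (M.restrict (i k))) : IsZero M := by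
  rw [IsZero.iff_id_eq_zero]
  refine Scheme.Modules.hom_ext _ _ fun U => ?_
  ext s
  show s = 0
  refine QCoh.eq_zero_of_locally U s fun p hp => ?_
  obtain ⟨k, hk⟩ := hcov p
  refine ⟨(i k) ''ᵁ ((i k) ⁻¹ᵁ U), homOfLE ((i k).image_preimage_eq_opensRange_inf U ▸ inf_le_right), ?_, ?_⟩
  · rw [(i k).image_preimage_eq_opensRange_inf U]; exact ⟨hk, hp⟩
  · haveI := subsingleton_sections (h k) ((i k) ⁻¹ᵁ U)
    exact Subsingleton.elim (α := Γ(M.restrict (i k), (i k) ⁻¹ᵁ U)) _ _

theorem isZero_extendScalars_of_pullback {R S : CommRingCat.{u}} (g : R ⟶ S) (φ : Y ⟶ X)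
    {j : Spec S ⟶ Y} [IsOpenImmersion j] {i : Spec R ⟶ X} [IsOpenImmersion i]
    (hw : Spec.map g ≫ i = j ≫ φ) {G : X.Modules} {M : ModuleCat.{u} R} (e : tilde M ≅ G.restrict i)
    (h : IsZero ((Scheme.Modules.pullback φ).obj G)) :
    IsZero ((ModuleCat.extendScalars.{_, _, u} g.hom).obj M) := by
  have h1 : IsZero (((Scheme.Modules.pullback φ).obj G).restrict j) :=
    (Scheme.Modules.restrictFunctor j).map_isZero h
  have h2 : IsZero ((Scheme.Modules.pullback (Spec.map g)).obj (tilde M)) :=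
    (h1.of_iso (QCoh.pullbackChartIso g φ hw G).symm).of_iso ((Scheme.Modules.pullback (Spec.map g)).mapIso e)
  have h3 : IsZero (tilde ((ModuleCat.extendScalars.{_, _, u} g.hom).obj M)) :=
    h2.of_iso ((QCoh.tildePullbackIso g).app M).symm
  rw [IsZero.iff_id_eq_zero]
  apply (tilde.functor S).map_injective
  exact h3.eq_of_src _ _

theorem isZero_of_pullback_pair {X' Y' : Scheme.{u}} (f : X' ⟶ Y) (u : Y' ⟶ Y) [IsAffineHom f] [IsClosedImmersion u]
    (hM : ∀ V ∈ Y.affineOpens,
      RingHom.ker (f.app V).hom ⊓ RingHom.ker (u.app V).hom = ⊥ ∧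
      ∀ a ∈ Ideal.map (f.app V).hom (RingHom.ker (u.app V).hom),
        ∃ i ∈ RingHom.ker (u.app V).hom, (f.app V).hom i = a)
    (G : Y.Modules) [G.IsQuasicoherent]
    (h1 : IsZero ((Scheme.Modules.pullback u).obj G)) (h2 : IsZero ((Scheme.Modules.pullback f).obj G)) :
    IsZero G := by
  refine isZero_of_restrict (ι := Y.affineOpens) (fun V => V.2.fromSpec) (fun y => ?_) fun V => ?_
  · obtain ⟨_, ⟨V, hV, rfl⟩, hyV, -⟩ :=
      Y.isBasis_affineOpens.exists_subset_of_mem_open (Set.mem_univ y) isOpen_univ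
    exact ⟨⟨V, hV⟩, hV.opensRange_fromSpec.ge hyV⟩
  · obtain ⟨M, ⟨e⟩⟩ := QCoh.isQCoh_spec_iff.1 (QCoh.isQCoh_restrict V.2.fromSpec (M := G) inferInstance)
    have hw : ∀ {Z : Scheme.{u}} (φ : Z ⟶ Y) [IsAffineHom φ],
        Spec.map (φ.app V.1) ≫ V.2.fromSpec = (V.2.preimage φ).fromSpec ≫ φ := fun φ _ => by
      rw [Scheme.Hom.app_eq_appLE]
      exact QCoh.exists_chart_map φ V.2 (V.2.preimage φ) le_rfl
    have hf := isZero_extendScalars_of_pullback (f.app V.1) f (hw f) e h2
    have hu := isZero_extendScalars_of_pullback (u.app V.1) u (hw u) e h1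
    obtain ⟨hinj, hmem⟩ := hM V.1 V.2
    have hI := smul_top_eq_top (M := M) (u.app V.1).hom (u.app_surjective V.1 V.2)
      (ModuleCat.subsingleton_of_isZero hu)
    haveI : Subsingleton M := subsingleton_of_pinch (M := M) (f.app V.1).hom _ hinj hmem
      (ModuleCat.subsingleton_of_isZero hf) hI
    exact ((tilde.functor _).map_isZero (ModuleCat.isZero_of_subsingleton M)).of_iso e.symm

end Groth.Agent.PinchMod
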