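import Groth.Agent.PinchMod.Sheaf
import Groth.Agent.KFlatLib.Scheme.TildeAmp
import Groth.Agent.KFlatLib.Scheme.Amplitude

/-!
# Flat modules over a fibre product of rings
-/

set_option autoImplicit false
set_option linter.style.haveILetI false

universe u

open TensorProduct

namespace Groth.Agent.PinchMod

section Algebra

variable {A B C M : Type u} [CommRing A] [CommRing B] [CommRing C] [Algebra A B] [Algebra A C]
  [AddCommGroup M] [Module A M]

/-- Tensoring with `M` is exact on `B`-modules as soon as `B ⊗ M` is flat. -/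
theorem rTensor_injective_of_linear [Module.Flat B (B ⊗[A] M)] {X Y : Type u} [AddCommGroup X] [Module B X]
    [Module A X] [IsScalarTower A B X] [AddCommGroup Y] [Module B Y] [Module A Y] [IsScalarTower A B Y]
    (f : X →ₗ[B] Y) (hf : Function.Injective f) : Function.Injective ((f.restrictScalars A).rTensor M) := by
  let cX := AlgebraTensorModule.cancelBaseChange A B B X M
  let cY := AlgebraTensorModule.cancelBaseChange A B B Y M
  have hfl := Module.Flat.rTensor_preserves_injective_linearMap (M := B ⊗[A] M) f hf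
  have he : ∀ z, (f.restrictScalars A).rTensor M (cX z) = cY (f.rTensor (B ⊗[A] M) z) := fun z => by
    induction z using TensorProduct.induction_on with
    | zero => simp
    | tmul x y =>
      induction y using TensorProduct.induction_on with
      | zero => simp
      | tmul b m => simp [cX, cY]
      | add a b ha hb => simp only [tmul_add, map_add, ha, hb]
    | add a b ha hb => simp only [map_add, ha, hb]
  intro z w hzw
  obtain ⟨z, rfl⟩ := cX.surjective z
  obtain ⟨w, rfl⟩ := cX.surjective w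
  rw [he, he] at hzw
  exact congrArg cX (hfl (cY.injective hzw))

variable (h : IsPinch A B C)
include h

/-- The base change to `C` does nothing to modules killed by the common ideal. -/
theorem bijective_one_tmul (X : Type u) [AddCommGroup X] [Module A X]
    (hX : ∀ i ∈ RingHom.ker (algebraMap A C), ∀ x : X, i • x = 0) :
    Function.Bijective (TensorProduct.mk A C X 1) := by
  refine ⟨(injective_iff_map_eq_zero _).2 fun x hx => ?_, exists_one_tmul h⟩
  have h1 := (one_tmul_eq_zero_iff h x).1 hx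
  have h2 : RingHom.ker (algebraMap A C) • (⊤ : Submodule A X) ≤ ⊥ :=
    Submodule.smul_le.2 fun i hi m _ => (Submodule.mem_bot A).2 (hX i hi m)
  exact (Submodule.mem_bot A).1 (h2 h1)

/-- Tensoring with `M` is exact on modules killed by the common ideal as soon as `C ⊗ M` is flat. -/
theorem rTensor_injective_of_killed [Module.Flat C (C ⊗[A] M)] {X Y : Type u} [AddCommGroup X] [Module A X]
    [AddCommGroup Y] [Module A Y] (f : X →ₗ[A] Y) (hf : Function.Injective f)
    (hY : ∀ i ∈ RingHom.ker (algebraMap A C), ∀ y : Y, i • y = 0) : Function.Injective (f.rTensor M) := by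
  have hX : ∀ i ∈ RingHom.ker (algebraMap A C), ∀ x : X, i • x = 0 := fun i hi x =>
    hf (by rw [map_smul, hY i hi, map_zero])
  let eX : X ≃ₗ[A] C ⊗[A] X := LinearEquiv.ofBijective _ (bijective_one_tmul h X hX)
  let eY : Y ≃ₗ[A] C ⊗[A] Y := LinearEquiv.ofBijective _ (bijective_one_tmul h Y hY)
  have hfeq : ∀ x, f.baseChange C (eX x) = eY (f x) := fun x => rfl
  have hinjC : Function.Injective (f.baseChange C) := fun a b hab => by
    obtain ⟨a, rfl⟩ := eX.surjective a
    obtain ⟨b, rfl⟩ := eX.surjective b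
    rw [hfeq, hfeq] at hab
    rw [hf (eY.injective hab)]
  have hC := rTensor_injective_of_linear (A := A) (M := M) (f.baseChange C) hinjC
  have he : ((f.baseChange C).restrictScalars A).rTensor M ∘ₗ eX.toLinearMap.rTensor M =
      eY.toLinearMap.rTensor M ∘ₗ f.rTensor M := by
    rw [← LinearMap.rTensor_comp, ← LinearMap.rTensor_comp]
    rfl
  intro z w hzw
  have h1 : ((f.baseChange C).restrictScalars A).rTensor M (eX.toLinearMap.rTensor M z) =
      ((f.baseChange C).restrictScalars A).rTensor M (eX.toLinearMap.rTensor M w) := by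
    rw [← LinearMap.comp_apply, ← LinearMap.comp_apply, he, LinearMap.comp_apply, LinearMap.comp_apply, hzw]
  exact (eX.rTensor M).injective (hC h1)

theorem flat_of_pinch [Module.Flat B (B ⊗[A] M)] [Module.Flat C (C ⊗[A] M)] : Module.Flat A M := by
  let I := RingHom.ker (algebraMap A C)
  let J : Ideal B := I.map (algebraMap A B)
  rw [Module.Flat.iff_rTensor_injective']
  intro 𝔞
  rw [injective_iff_map_eq_zero]
  intro z hz
  -- first step: the part of `𝔞` inside the common ideal
  let p : Submodule A 𝔞 := Submodule.comap 𝔞.subtype I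
  let f₁ : (𝔞 ⧸ p) →ₗ[A] A ⧸ I := p.mapQ I 𝔞.subtype le_rfl
  have hf₁ : Function.Injective f₁ := by
    rw [← LinearMap.ker_eq_bot]
    exact Submodule.ker_liftQ_eq_bot _ _ _ (by rw [LinearMap.ker_comp, Submodule.ker_mkQ])
  have hkill₁ : ∀ i ∈ RingHom.ker (algebraMap A C), ∀ y : A ⧸ I, i • y = 0 := fun i hi y => by
    obtain ⟨y, rfl⟩ := Submodule.Quotient.mk_surjective _ y
    rw [← Submodule.Quotient.mk_smul, Submodule.Quotient.mk_eq_zero]
    exact I.mul_mem_right y hi
  have hz₁ : p.mkQ.rTensor M z = 0 := by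
    apply rTensor_injective_of_killed h f₁ hf₁ hkill₁ (M := M)
    rw [map_zero, ← LinearMap.comp_apply, ← LinearMap.rTensor_comp]
    show ((Submodule.mkQ I).comp 𝔞.subtype).rTensor M z = 0
    rw [LinearMap.rTensor_comp, LinearMap.comp_apply, hz, map_zero]
  obtain ⟨w, rfl⟩ := ((rTensor_exact M (LinearMap.exact_subtype_mkQ p) p.mkQ_surjective) _).1 hz₁
  -- second step: move into the ideal `J` of `B`
  let ψ : p →ₗ[A] J :=
    { toFun := fun a => ⟨algebraMap A B a.1.1, Ideal.mem_map_of_mem _ a.2⟩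
      map_add' := fun a b => Subtype.ext (map_add _ _ _)
      map_smul' := fun c a => Subtype.ext (by
        show algebraMap A B (c * a.1.1) = c • algebraMap A B a.1.1
        rw [map_mul, Algebra.smul_def]) }
  let J' : Ideal B := (I * 𝔞).map (algebraMap A B)
  have hJ' : ∀ j ∈ J', ∃ a ∈ I * 𝔞, algebraMap A B a = j := by
    intro j hj
    refine Submodule.span_induction ?_ ⟨0, zero_mem _, map_zero _⟩ ?_ ?_ hj
    · rintro _ ⟨a, ha, rfl⟩; exact ⟨a, ha, rfl⟩
    · rintro _ _ _ _ ⟨a, ha, rfl⟩ ⟨b, hb, rfl⟩; exact ⟨a + b, add_mem ha hb, map_add _ _ _⟩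
    · rintro b _ _ ⟨a, ha, rfl⟩
      refine Submodule.mul_induction_on ha (fun i hi x hx => ?_) ?_
      · obtain ⟨i', hi', he⟩ := h.mem (b * algebraMap A B i) (Ideal.mul_mem_left _ b (Ideal.mem_map_of_mem _ hi))
        exact ⟨i' * x, Ideal.mul_mem_mul hi' hx, by rw [map_mul, map_mul, he, smul_eq_mul, mul_assoc]⟩
      · rintro x y ⟨a, ha, hax⟩ ⟨a', ha', hay⟩
        exact ⟨a + a', add_mem ha ha', by rw [map_add, hax, hay, map_add, smul_add]⟩
  let J₁ : Submodule B J := Submodule.comap J.subtype J'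
  let K : Submodule B (↥J ⧸ J₁) :=
    { carrier := {y | ∀ j ∈ J, j • y = 0}
      add_mem' := fun hx hy j hj => by rw [smul_add, hx j hj, hy j hj, add_zero]
      zero_mem' := fun j _ => smul_zero j
      smul_mem' := fun b y hy j hj => by rw [smul_comm, hy j hj, smul_zero] }
  have hψK : ∀ a, J₁.mkQ (ψ a) ∈ K := fun a j hj => by
    rw [← map_smul, Submodule.mkQ_apply, Submodule.Quotient.mk_eq_zero]
    obtain ⟨i, hi, rfl⟩ := h.mem j hj
    show algebraMap A B i * algebraMap A B a.1.1 ∈ J'
    rw [← map_mul]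
    exact Ideal.mem_map_of_mem _ (Ideal.mul_mem_mul hi a.1.2)
  let g : p →ₗ[A] K := LinearMap.codRestrict (K.restrictScalars A) ((J₁.mkQ.restrictScalars A).comp ψ) hψK
  have hw₀ : ψ.rTensor M w = 0 := by
    apply rTensor_injective_of_linear (A := A) (M := M) J.subtype J.injective_subtype
    rw [map_zero, ← LinearMap.comp_apply, ← LinearMap.rTensor_comp]
    have : (J.subtype.restrictScalars A).comp ψ = (Algebra.linearMap A B).comp (𝔞.subtype.comp p.subtype) := rfl
    rw [this, LinearMap.rTensor_comp, LinearMap.rTensor_comp, LinearMap.comp_apply, LinearMap.comp_apply, hz,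
      map_zero]
  have hg₀ : g.rTensor M w = 0 := by
    apply rTensor_injective_of_linear (A := A) (M := M) K.subtype K.injective_subtype
    rw [map_zero, ← LinearMap.comp_apply, ← LinearMap.rTensor_comp]
    show ((J₁.mkQ.restrictScalars A).comp ψ).rTensor M w = 0
    rw [LinearMap.rTensor_comp, LinearMap.comp_apply, hw₀, map_zero]
  have hkill₂ : ∀ i ∈ RingHom.ker (algebraMap A C), ∀ y : K, i • y = 0 := fun i hi y => Subtype.ext (by
    show i • (y : ↥J ⧸ J₁) = 0
    rw [← algebraMap_smul B i]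
    exact y.2 _ (Ideal.mem_map_of_mem _ hi))
  let f₂ : (p ⧸ LinearMap.ker g) →ₗ[A] K := (LinearMap.ker g).liftQ g le_rfl
  have hf₂ : Function.Injective f₂ := by
    rw [← LinearMap.ker_eq_bot]
    exact Submodule.ker_liftQ_eq_bot _ _ _ le_rfl
  have hw₂ : (LinearMap.ker g).mkQ.rTensor M w = 0 := by
    apply rTensor_injective_of_killed h f₂ hf₂ hkill₂ (M := M)
    rw [map_zero, ← LinearMap.comp_apply, ← LinearMap.rTensor_comp]
    show g.rTensor M w = 0
    exact hg₀
  let q : Submodule A p := LinearMap.ker g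
  obtain ⟨v, rfl⟩ := (rTensor_mkQ M q).le (LinearMap.mem_ker.2 hw₂)
  -- third step: the kernel is a `B`-ideal
  have hg1 : ∀ a : LinearMap.ker g, algebraMap A B a.1.1.1 ∈ J' := fun a => by
    have : J₁.mkQ (ψ a.1) = 0 := congrArg Subtype.val a.2
    exact (Submodule.Quotient.mk_eq_zero J₁).1 this
  let θ : LinearMap.ker g →ₗ[A] J' :=
    { toFun := fun a => ⟨algebraMap A B a.1.1.1, hg1 a⟩
      map_add' := fun a b => Subtype.ext (map_add _ _ _)
      map_smul' := fun c a => Subtype.ext (by
        show algebraMap A B (c * a.1.1.1) = c • algebraMap A B a.1.1.1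
        rw [map_mul, Algebra.smul_def]) }
  have hθ : Function.Bijective θ := by
    refine ⟨fun a b hab => Subtype.ext (Subtype.ext (Subtype.ext ?_)), fun j => ?_⟩
    · rw [← sub_eq_zero, ← Submodule.mem_bot A, ← h.inj]
      exact ⟨RingHom.mem_ker.2 (by rw [map_sub]; exact sub_eq_zero.2 (congrArg Subtype.val hab)), sub_mem a.1.2 b.1.2⟩
    · obtain ⟨a, ha, hae⟩ := hJ' j.1 j.2
      refine ⟨⟨⟨⟨a, Ideal.mul_le_right ha⟩, Ideal.mul_le_left ha⟩, ?_⟩, Subtype.ext hae⟩
      refine Subtype.ext ((Submodule.Quotient.mk_eq_zero J₁).2 ?_)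
      show algebraMap A B a ∈ J'
      rw [hae]; exact j.2
  have hv : v = 0 := by
    apply ((LinearEquiv.ofBijective θ hθ).rTensor M).injective
    rw [map_zero]
    apply rTensor_injective_of_linear (A := A) (M := M) J'.subtype J'.injective_subtype
    rw [map_zero, LinearEquiv.rTensor]
    show (J'.subtype.restrictScalars A).rTensor M (θ.rTensor M v) = 0
    rw [← LinearMap.comp_apply, ← LinearMap.rTensor_comp]
    have : (J'.subtype.restrictScalars A).comp θ =
        (Algebra.linearMap A B).comp (𝔞.subtype.comp (p.subtype.comp (LinearMap.ker g).subtype)) := rfl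
    rw [this, LinearMap.rTensor_comp, LinearMap.rTensor_comp, LinearMap.rTensor_comp, LinearMap.comp_apply,
      LinearMap.comp_apply, LinearMap.comp_apply, hz, map_zero]
  rw [hv, map_zero, map_zero]

end Algebra

set_option backward.isDefEq.respectTransparency false
set_option backward.isDefEq.respectTransparency.types false

open CategoryTheory CategoryTheory.Limits AlgebraicGeometry

variable {X Y Y' : Scheme.{u}}

theorem flat_extendScalars (φ : X ⟶ Y) [IsAffineHom φ] (G : Y.Modules)
    (hG : FlatMod.IsFlat ((Scheme.Modules.pullback φ).obj G)) (V : Y.affineOpens)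
    {M : ModuleCat.{u} Γ(Y, V.1)} (e : tilde M ≅ G.restrict V.2.fromSpec) :
    letI := (φ.app V.1).hom.toAlgebra
    Module.Flat Γ(X, φ ⁻¹ᵁ V.1) (Γ(X, φ ⁻¹ᵁ V.1) ⊗[Γ(Y, V.1)] M) := by
  obtain ⟨i⟩ := chart_pullback_iso φ G V e
  exact (KFlatLib.isFlat_tilde_iff _).1 (KFlatLib.isFlat_of_iso'
    (((Scheme.Modules.restrictFunctorIsoPullback (V.2.preimage φ).fromSpec).app _).symm ≪≫ i)
    (KFlatLib.isFlat_pullback _ hG))

theorem isFlat_iff (f : X ⟶ Y) (u : Y' ⟶ Y) [IsAffineHom f] [IsClosedImmersion u]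
    (hM : ∀ V ∈ Y.affineOpens,
      RingHom.ker (f.app V).hom ⊓ RingHom.ker (u.app V).hom = ⊥ ∧
      ∀ a ∈ Ideal.map (f.app V).hom (RingHom.ker (u.app V).hom),
        ∃ i ∈ RingHom.ker (u.app V).hom, (f.app V).hom i = a)
    (G : Y.Modules) [G.IsQuasicoherent] :
    FlatMod.IsFlat G ↔
      FlatMod.IsFlat ((Scheme.Modules.pullback u).obj G) ∧ FlatMod.IsFlat ((Scheme.Modules.pullback f).obj G) := by
  refine ⟨fun h => ⟨KFlatLib.isFlat_pullback u h, KFlatLib.isFlat_pullback f h⟩, fun h y => ?_⟩
  obtain ⟨_, ⟨V₀, hV₀, rfl⟩, hyV, -⟩ :=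
    Y.isBasis_affineOpens.exists_subset_of_mem_open (Set.mem_univ y) isOpen_univ
  let V : Y.affineOpens := ⟨V₀, hV₀⟩
  obtain ⟨M, ⟨e⟩⟩ := exists_chart_iso G V
  letI := (f.app V.1).hom.toAlgebra
  letI := (u.app V.1).hom.toAlgebra
  haveI := flat_extendScalars u G h.1 V e
  haveI := flat_extendScalars f G h.2 V e
  haveI : Module.Flat Γ(Y, V.1) M := flat_of_pinch (isPinch_app f u hM V)
  let e' : M ≅ moduleSpecΓFunctor.obj (G.restrict V.2.fromSpec) :=
    (tilde.toTildeΓNatIso (R := Γ(Y, V.1))).app M ≪≫ moduleSpecΓFunctor.mapIso e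
  haveI : Module.Flat Γ(Y, V.1) (moduleSpecΓFunctor.obj (G.restrict V.2.fromSpec)) :=
    Module.Flat.of_linearEquiv e'.toLinearEquiv.symm
  have h1 : Module.Flat Γ(Y, V.1) Γ(G, V.1) := Module.Flat.of_linearEquiv (QCoh.chartEquiv V.2 G)
  exact (QCoh.flat_sections_iff (M := G) inferInstance V.2).1 h1 y hyV

end Groth.Agent.PinchMod
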