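import Groth.Agent.PinchMod.Algebra
import Groth.Agent.QCoh.SpecFT
import Groth.Agent.FittX.Sheaf
import Groth.Agent.KFlatLib.Scheme.TildePC
import Groth.Agent.KFlatLib.Perfect.LocFree
import Groth.Agent.ConsPropLib.FibreLocFree

/-!
# Finite type and finite locally free modules on a pinching square
-/

set_option autoImplicit false
set_option linter.style.haveILetI false
set_option backward.isDefEq.respectTransparency false
set_option backward.isDefEq.respectTransparency.types false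

universe u

open CategoryTheory CategoryTheory.Limits AlgebraicGeometry TopologicalSpace Opposite TensorProduct

namespace Groth.Agent.PinchMod

variable {X X' Y Y' : Scheme.{u}}

theorem exists_chart_iso (G : Y.Modules) [G.IsQuasicoherent] (V : Y.affineOpens) :
    ∃ M : ModuleCat.{u} Γ(Y, V.1), Nonempty (tilde M ≅ G.restrict V.2.fromSpec) :=
  QCoh.isQCoh_spec_iff.1 (QCoh.isQCoh_restrict V.2.fromSpec (M := G) inferInstance)

theorem chart_pullback_iso (φ : X ⟶ Y) [IsAffineHom φ] (G : Y.Modules) (V : Y.affineOpens)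
    {M : ModuleCat.{u} Γ(Y, V.1)} (e : tilde M ≅ G.restrict V.2.fromSpec) :
    Nonempty (((Scheme.Modules.pullback φ).obj G).restrict (V.2.preimage φ).fromSpec ≅
      tilde ((ModuleCat.extendScalars.{_, _, u} (φ.app V.1).hom).obj M)) := by
  have hw : Spec.map (φ.app V.1) ≫ V.2.fromSpec = (V.2.preimage φ).fromSpec ≫ φ := by
    rw [Scheme.Hom.app_eq_appLE]
    exact QCoh.exists_chart_map φ V.2 (V.2.preimage φ) le_rfl
  exact ⟨QCoh.pullbackChartIso (φ.app V.1) φ hw G ≪≫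
    (Scheme.Modules.pullback (Spec.map (φ.app V.1))).mapIso e.symm ≪≫ (QCoh.tildePullbackIso (φ.app V.1)).app M⟩

theorem isFT_of_charts {G : Y.Modules} [G.IsQuasicoherent]
    (h : ∀ V : Y.affineOpens, ∀ M : ModuleCat.{u} Γ(Y, V.1), (tilde M ≅ G.restrict V.2.fromSpec) → Module.Finite Γ(Y, V.1) M) :
    CohB1.IsFT G := by
  refine (QCoh.isFT_iff (M := G) inferInstance).2 fun V => ?_
  obtain ⟨M, ⟨e⟩⟩ := exists_chart_iso G V
  haveI := h V M e
  have h1 : CohB1.IsFT (G.restrict V.2.fromSpec) := KFlatLib.isFT_of_iso' e ((QCoh.isFT_tilde_iff M).2 inferInstance)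
  haveI := (QCoh.isFT_iff_finite (N := G.restrict V.2.fromSpec) (QCoh.isQCoh_restrict _ inferInstance)).1 h1
  exact Module.Finite.equiv (QCoh.chartEquiv V.2 G).symm

theorem finite_extendScalars (φ : X ⟶ Y) [IsAffineHom φ] (G : Y.Modules) [G.IsQuasicoherent]
    (hG : CohB1.IsFT ((Scheme.Modules.pullback φ).obj G)) (V : Y.affineOpens)
    {M : ModuleCat.{u} Γ(Y, V.1)} (e : tilde M ≅ G.restrict V.2.fromSpec) :
    letI := (φ.app V.1).hom.toAlgebra
    Module.Finite Γ(X, φ ⁻¹ᵁ V.1) (Γ(X, φ ⁻¹ᵁ V.1) ⊗[Γ(Y, V.1)] M) := by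
  obtain ⟨i⟩ := chart_pullback_iso φ G V e
  have h1 := KFlatLib.isFT_of_iso' ((Scheme.Modules.restrictFunctorIsoPullback (V.2.preimage φ).fromSpec).app _).symm
    (FittX.isFT_pullback (V.2.preimage φ).fromSpec (QCoh.isQCoh_pullback φ inferInstance) hG)
  exact (QCoh.isFT_tilde_iff _).1 (KFlatLib.isFT_of_iso' i h1)

theorem projective_extendScalars (φ : X ⟶ Y) [IsAffineHom φ] (G : Y.Modules)
    (hG : FlatMod.IsFinLocFree ((Scheme.Modules.pullback φ).obj G)) (V : Y.affineOpens)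
    {M : ModuleCat.{u} Γ(Y, V.1)} (e : tilde M ≅ G.restrict V.2.fromSpec) :
    letI := (φ.app V.1).hom.toAlgebra
    Module.Finite Γ(X, φ ⁻¹ᵁ V.1) (Γ(X, φ ⁻¹ᵁ V.1) ⊗[Γ(Y, V.1)] M) ∧
      Module.Projective Γ(X, φ ⁻¹ᵁ V.1) (Γ(X, φ ⁻¹ᵁ V.1) ⊗[Γ(Y, V.1)] M) := by
  obtain ⟨i⟩ := chart_pullback_iso φ G V e
  exact (QCoh.isFinLocFree_tilde_iff _).1
    ((ConsPropLib.isFinLocFree_iso i).1 (ConsPropLib.isFinLocFree_restrict _ hG))

variable (f : X ⟶ Y) (u : Y' ⟶ Y) [IsAffineHom f] [IsClosedImmersion u]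
  (hM : ∀ V ∈ Y.affineOpens,
    RingHom.ker (f.app V).hom ⊓ RingHom.ker (u.app V).hom = ⊥ ∧
    ∀ a ∈ Ideal.map (f.app V).hom (RingHom.ker (u.app V).hom),
      ∃ i ∈ RingHom.ker (u.app V).hom, (f.app V).hom i = a)
include hM

theorem isPinch_app (V : Y.affineOpens) :
    letI := (f.app V.1).hom.toAlgebra
    letI := (u.app V.1).hom.toAlgebra
    IsPinch Γ(Y, V.1) Γ(X, f ⁻¹ᵁ V.1) Γ(Y', u ⁻¹ᵁ V.1) := by
  letI := (f.app V.1).hom.toAlgebra
  letI := (u.app V.1).hom.toAlgebra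
  exact ⟨u.app_surjective V.1 V.2, (hM V.1 V.2).1, (hM V.1 V.2).2⟩

theorem isFiniteType_iff (G : Y.Modules) [G.IsQuasicoherent] :
    SheafOfModules.IsFiniteType G ↔
      SheafOfModules.IsFiniteType ((Scheme.Modules.pullback u).obj G) ∧
        SheafOfModules.IsFiniteType ((Scheme.Modules.pullback f).obj G) := by
  refine ⟨fun h => ⟨FittX.isFT_pullback u inferInstance h, FittX.isFT_pullback f inferInstance h⟩, fun h => ?_⟩
  refine isFT_of_charts fun V M e => ?_
  letI := (f.app V.1).hom.toAlgebra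
  letI := (u.app V.1).hom.toAlgebra
  haveI := finite_extendScalars u G h.1 V e
  haveI := finite_extendScalars f G h.2 V e
  exact finite_of_pinch (M := M) (isPinch_app f u hM V)

theorem isFinLocFree_iff (G : Y.Modules) [G.IsQuasicoherent] :
    FlatMod.IsFinLocFree G ↔
      FlatMod.IsFinLocFree ((Scheme.Modules.pullback u).obj G) ∧
        FlatMod.IsFinLocFree ((Scheme.Modules.pullback f).obj G) := by
  refine ⟨fun h => ⟨KFlatLib.isFinLocFree_pullback u h, KFlatLib.isFinLocFree_pullback f h⟩, fun h => ?_⟩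
  refine ConsPropLib.isFinLocFree_of_cover (fun V : Y.affineOpens => V.2.fromSpec) (fun y => ?_) fun V => ?_
  · obtain ⟨_, ⟨V, hV, rfl⟩, hyV, -⟩ :=
      Y.isBasis_affineOpens.exists_subset_of_mem_open (Set.mem_univ y) isOpen_univ
    exact ⟨⟨V, hV⟩, by rw [hV.range_fromSpec]; exact hyV⟩
  · obtain ⟨M, ⟨e⟩⟩ := exists_chart_iso G V
    letI := (f.app V.1).hom.toAlgebra
    letI := (u.app V.1).hom.toAlgebra
    obtain ⟨h1, h1'⟩ := projective_extendScalars u G h.1 V e
    obtain ⟨h2, h2'⟩ := projective_extendScalars f G h.2 V e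
    haveI := h1; haveI := h1'; haveI := h2; haveI := h2'
    have hp := isPinch_app f u hM V
    haveI : Module.Finite Γ(Y, V.1) M := finite_of_pinch hp
    exact (ConsPropLib.isFinLocFree_iso e).1
      ((QCoh.isFinLocFree_tilde_iff M).2 ⟨inferInstance, projective_of_pinch hp⟩)

end Groth.Agent.PinchMod
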